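import Cfsg.Agent.Lib.Supersolvable.Tower
import Cfsg.Agent.Lib.Solvable.CoprimeAction
import Mathlib.GroupTheory.IndexNormal

/-!
Supersolvability criteria: order `2 p^n`, hereditary converse of Lagrange.
-/

set_option autoImplicit false

open Subgroup

namespace CfsgLib.Supersolvable

universe u

variable {G : Type u} [Group G]

/-- A nontrivial normal subgroup of a supersolvable group contains a normal subgroup of prime
order. -/
theorem exists_normal_prime_le [Finite G] (hG : Cfsg.IsSupersolvable G) (N : Subgroup G) [N.Normal]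
    (hN : N ≠ ⊥) : ∃ Z : Subgroup G, Z.Normal ∧ Z ≤ N ∧ (Nat.card Z).Prime := by
  obtain ⟨n, H, h0, hl, hn, hs⟩ := hG
  have key : ∀ i : Fin (n + 1), (H i).comap N.subtype = ⊥ ∨
      ∃ Z : Subgroup G, Z.Normal ∧ Z ≤ N ∧ (Nat.card Z).Prime := by
    intro i
    induction i using Fin.induction with
    | zero => exact Or.inl (by rw [h0, MonoidHom.comap_bot, N.ker_subtype])
    | succ i ih =>
      rcases ih with hbot | hZ
      · obtain ⟨g, hg⟩ := hs i
        have := hn i.castSucc
        obtain ⟨k, hk⟩ := exists_comap_eq_sup_zpowers N.subtype (H i.castSucc) g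
        rw [hbot, bot_sup_eq, ← hg] at hk
        rcases eq_or_ne k 1 with rfl | hk1
        · exact Or.inl (by rw [hk, zpowers_one_eq_bot])
        · right
          have h1 := congrArg (Subgroup.map N.subtype) hk
          rw [MonoidHom.map_zpowers, comap_subtype, subgroupOf_map_subtype] at h1
          have hnorm : (zpowers (N.subtype k)).Normal := by
            rw [← h1]
            have := hn i.succ
            infer_instance
          have ho : orderOf (N.subtype k) = orderOf k := orderOf_injective _ N.subtype_injective k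
          obtain ⟨q, hq, hqd⟩ := Nat.exists_prime_and_dvd
            (ho ▸ orderOf_eq_one_iff.not.mpr hk1 : orderOf (N.subtype k) ≠ 1)
          obtain ⟨Z, hZn, hZc, hZle⟩ := exists_normal_prime_le_zpowers _ hnorm hq hqd
          exact ⟨Z, hZn, hZle.trans (zpowers_le.mpr k.2), hZc ▸ hq⟩
      · exact Or.inr hZ
  refine (key (Fin.last n)).resolve_left ?_
  rw [hl, comap_top]
  have := (nontrivial_iff_ne_bot N).mpr hN
  exact top_ne_bot

/-- A normal `p`-subgroup `P` and a supersolvable `H` of index `p` with `P H = G`. -/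
theorem of_index_prime_supplement [Finite G] {p : ℕ} [hp : Fact p.Prime] (P H : Subgroup G)
    [P.Normal] (hP : IsPGroup p P) (hH : Cfsg.IsSupersolvable H) (hi : H.index = p)
    (hPH : P ⊔ H = ⊤) : Cfsg.IsSupersolvable G := by
  revert P H
  refine groupInduction (P := fun G _ _ => ∀ (P H : Subgroup G) [P.Normal], IsPGroup p P →
    Cfsg.IsSupersolvable H → H.index = p → P ⊔ H = ⊤ → Cfsg.IsSupersolvable G)
    (fun G _ _ ih P H _ hP hH hi hPH => ?_) G
  have hmax : ∀ X : Subgroup G, H ≤ X → X = H ∨ X = ⊤ := fun X hX => by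
    rcases (Nat.dvd_prime hp.1).mp (hi ▸ index_dvd_of_le hX) with h | h
    · exact Or.inr (index_eq_one.mp h)
    · refine Or.inl (le_antisymm ?_ hX)
      rw [← relIndex_eq_one]
      have h2 := relIndex_mul_index hX
      rw [hi, h] at h2
      exact Nat.eq_of_mul_eq_mul_right hp.1.pos (h2.trans (one_mul p).symm)
  have hPnH : ¬ P ≤ H := fun h => by
    rw [sup_eq_right.mpr h] at hPH
    rw [hPH, index_top] at hi
    exact hp.1.ne_one hi.symm
  have hP0 : (P ⊓ H).Normal := by
    have hHle : H ≤ normalizer ((P ⊓ H : Subgroup G) : Set G) :=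
      le_trans (le_inf ((normalizer_eq_top P).ge.trans' le_top) le_normalizer) fun g hg => by
        rw [mem_inf, mem_normalizer_iff, mem_normalizer_iff] at hg
        rw [mem_normalizer_iff]
        intro x
        rw [mem_inf, mem_inf, hg.1 x, hg.2 x]
    rcases hmax _ hHle with h | h
    · exfalso
      have := hP.isNilpotent
      have hlt : (P ⊓ H).subgroupOf P < ⊤ := lt_top_iff_ne_top.mpr fun h' =>
        hPnH ((subgroupOf_eq_top.mp h').trans inf_le_right)
      obtain ⟨x, hx, hx'⟩ :=
        SetLike.exists_of_lt (Group.normalizerCondition_of_isNilpotent _ hlt)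
      have h1 : (x : G) ∈ normalizer ((P ⊓ H : Subgroup G) : Set G) := by
        have h2 := le_normalizer_map P.subtype (mem_map_of_mem P.subtype hx)
        rwa [map_subgroupOf_eq_of_le inf_le_left] at h2
      exact hx' (mem_subgroupOf.mpr ⟨x.2, h ▸ h1⟩)
    · exact normalizer_eq_top_iff.mp h
  by_cases hbot : P ⊓ H = ⊥
  · -- `P` has order `p`
    have hcomp : IsComplement' P H := isComplement'_of_disjoint_and_mul_eq_univ
      (disjoint_iff.mpr hbot) (by rw [← normal_mul, hPH, coe_top])
    have hPc : Nat.card P = p := by rw [← hcomp.index_eq_card, hi]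
    refine of_quotient_prime P (hPc ▸ hp.1) (of_surjective
      ((QuotientGroup.mk' P).comp H.subtype) ?_ hH)
    intro y
    obtain ⟨g, rfl⟩ := QuotientGroup.mk'_surjective P y
    obtain ⟨a, ha, b, hb, rfl⟩ := mem_sup_of_normal_left.mp (hPH ▸ mem_top g : g ∈ P ⊔ H)
    exact ⟨⟨b, hb⟩, by simp [(QuotientGroup.eq_one_iff a).mpr ha]⟩
  · set N₀ := P ⊓ H ⊓ centralizer (P : Set G) with hN₀
    have hne : N₀ ≠ ⊥ := by
      have hne' : (P ⊓ H).subgroupOf P ≠ ⊥ := fun h => hbot (by
        rw [← map_subgroupOf_eq_of_le (inf_le_left : P ⊓ H ≤ P), h, Subgroup.map_bot])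
      obtain ⟨z, hz, hz1⟩ := CfsgLib.Solvable.exists_ne_one_mem_inf_center_of_normal hP hne'
      intro h
      refine hz1 (Subtype.ext (mem_bot.mp (h ▸ mem_inf.mpr ⟨mem_subgroupOf.mp hz.1, ?_⟩)))
      rw [mem_centralizer_iff]
      exact fun y hy => congrArg Subtype.val (mem_center_iff.mp hz.2 ⟨y, hy⟩)
    have : N₀.Normal := inferInstance
    have hle : N₀ ≤ H := inf_le_left.trans inf_le_right
    have hne'' : N₀.subgroupOf H ≠ ⊥ := fun h => hne (by
      rw [← map_subgroupOf_eq_of_le hle, h, Subgroup.map_bot])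
    obtain ⟨Z, hZn, hZle, hZc⟩ := exists_normal_prime_le hH (N₀.subgroupOf H) hne''
    set Z' := Z.map H.subtype
    have hZ'le : Z' ≤ N₀ := (map_mono hZle).trans (map_subgroupOf_eq_of_le hle).le
    have hZ'c : (Nat.card Z').Prime := by rwa [card_map_of_injective H.subtype_injective]
    have hZ'n : Z'.Normal := by
      rw [← normalizer_eq_top_iff, eq_top_iff, ← hPH]
      refine sup_le ?_ ?_
      · refine le_trans ?_ (centralizer_le_normalizer (Z' : Set G))
        rw [le_centralizer_iff]
        exact hZ'le.trans inf_le_right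
      · have h1 := le_normalizer_map (H := Z) H.subtype
        rw [normalizer_eq_top Z, ← MonoidHom.range_eq_map, range_subtype] at h1
        exact h1
    have hsurj := QuotientGroup.mk'_surjective Z'
    have hker : (QuotientGroup.mk' Z').ker ≤ H := by
      rw [QuotientGroup.ker_mk']; exact hZ'le.trans hle
    have := (inferInstance : P.Normal).map _ hsurj
    refine of_quotient_prime Z' hZ'c (ih _ (card_quotient_lt (prime_card_ne_bot hZ'c))
      (P.map (QuotientGroup.mk' Z')) (H.map (QuotientGroup.mk' Z')) (hP.map _) ?_ ?_ ?_)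
    · exact of_surjective ((QuotientGroup.mk' Z').subgroupMap H)
        (MonoidHom.subgroupMap_surjective _ H) hH
    · rw [index_map_eq H hsurj hker, hi]
    · rw [← Subgroup.map_sup, hPH, map_top_of_surjective _ hsurj]

/-- Groups of order `2 p^n` are supersolvable. -/
theorem of_card_two_mul_prime_pow [Finite G] {p n : ℕ} (hp : p.Prime)
    (hG : Nat.card G = 2 * p ^ n) : Cfsg.IsSupersolvable G := by
  rcases hp.eq_two_or_odd' with rfl | hodd
  · have := Fact.mk Nat.prime_two
    exact of_isPGroup (IsPGroup.of_card (n := n + 1) (by rw [hG, pow_succ']))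
  revert hG
  induction n generalizing G with
  | zero =>
    intro hG
    have := Fact.mk Nat.prime_two
    exact of_isPGroup (IsPGroup.of_card (n := 1) (by rw [hG, pow_zero, mul_one, pow_one]))
  | succ n ih =>
    intro hG
    have := Fact.mk hp
    have hne2 : p ≠ 2 := fun h => by subst h; exact absurd hodd (by decide)
    have P : Sylow p G := default
    have hPc : Nat.card P = p ^ (n + 1) := by
      rw [P.card_eq_multiplicity, hG, Nat.factorization_mul (by norm_num) (pow_pos hp.pos _).ne',
        hp.factorization_pow, Nat.prime_two.factorization]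
      simp [hne2.symm]
    have hi : (P : Subgroup G).index = 2 := by
      have := (P : Subgroup G).card_mul_index
      rw [hG, hPc, mul_comm 2] at this
      exact Nat.eq_of_mul_eq_mul_left (pow_pos hp.pos _) this
    have hPn : (P : Subgroup G).Normal := normal_of_index_eq_two hi
    have := Fact.mk Nat.prime_two
    obtain ⟨t, ht⟩ := exists_prime_orderOf_dvd_card' (G := G) 2 (hG ▸ dvd_mul_right 2 _)
    have htP : t ∉ (P : Subgroup G) := fun h => by
      have h1 := orderOf_dvd_natCard (⟨t, h⟩ : (P : Subgroup G))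
      rw [Subgroup.orderOf_mk, ht, hPc] at h1
      exact hne2 ((Nat.prime_dvd_prime_iff_eq Nat.prime_two hp).mp
        (Nat.prime_two.dvd_of_dvd_pow h1)).symm
    have : Nontrivial P := Finite.one_lt_card_iff_nontrivial.mp
      (by rw [hPc]; exact Nat.one_lt_pow (Nat.succ_ne_zero n) hp.one_lt)
    have := P.2.center_nontrivial
    have hdvd : p ∣ Nat.card (center P) :=
      ((P.2.to_subgroup (center P)).card_eq_or_dvd).resolve_left (Finite.one_lt_card).ne'
    obtain ⟨x, hx⟩ := exists_prime_orderOf_dvd_card' p hdvd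
    -- `t` acts on the centre of `P`
    set C := (center P).map (P : Subgroup G).subtype
    have hCn : C.Normal := inferInstance
    have hxC : ((x : P) : G) ∈ C := mem_map_of_mem _ x.2
    set y := t * ((x : P) : G) * t⁻¹ with hy
    have hyC : y ∈ C := hCn.conj_mem _ hxC t
    have hox : orderOf ((x : P) : G) = p := by
      rw [Subgroup.orderOf_coe, Subgroup.orderOf_coe, hx]
    have hxp : ((x : P) : G) ^ p = 1 := by
      have := pow_orderOf_eq_one ((x : P) : G)
      rwa [hox] at this
    have hoy : y ^ p = 1 := by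
      rw [hy, conj_pow, hxp, mul_one, mul_inv_cancel]
    have hcomm : ∀ c ∈ C, ∀ a ∈ (P : Subgroup G), a * c = c * a := by
      rintro _ ⟨c, hc, rfl⟩ a ha
      exact congrArg Subtype.val (mem_center_iff.mp hc ⟨a, ha⟩)
    have htt : t * t = 1 := by rw [← pow_two, ← ht, pow_orderOf_eq_one]
    obtain ⟨z, hzC, hzp, hz1, hzt⟩ : ∃ z ∈ C, z ^ p = 1 ∧ z ≠ 1 ∧
        t * z * t⁻¹ ∈ zpowers z := by
      by_cases hw : ((x : P) : G) * y = 1
      · refine ⟨_, hxC, hxp, fun h => ?_, ?_⟩
        · rw [h, orderOf_one] at hox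
          exact hp.ne_one hox.symm
        · rw [← hy, ← inv_eq_of_mul_eq_one_right hw]
          exact inv_mem (mem_zpowers _)
      · refine ⟨_, C.mul_mem hxC hyC, ?_, hw, ?_⟩
        · rw [Commute.mul_pow (hcomm y hyC _ (x : P).2), hoy, mul_one, hxp]
        · have : t * (((x : P) : G) * y) * t⁻¹ = ((x : P) : G) * y := by
            calc t * (((x : P) : G) * y) * t⁻¹
                = t * ((x : P) : G) * t⁻¹ * (t * t * ((x : P) : G) * (t * t)⁻¹) := by rw [hy]; group
              _ = y * ((x : P) : G) := by rw [htt, inv_one, one_mul, mul_one, ← hy]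
              _ = ((x : P) : G) * y := hcomm _ hxC y (map_subtype_le _ hyC)
          rw [this]
          exact mem_zpowers _
    set N := zpowers z
    have hNc : Nat.card N = p := by rw [Nat.card_zpowers, orderOf_eq_prime hzp hz1]
    have hNn : N.Normal := by
      rw [← normalizer_eq_top_iff]
      have h1 : (P : Subgroup G) ≤ normalizer (N : Set G) :=
        le_trans (fun a ha => mem_centralizer_iff.mpr fun c hc => by
          obtain ⟨k, rfl⟩ := mem_zpowers_iff.mp hc
          exact (hcomm _ (C.zpow_mem hzC k) a ha).symm) (centralizer_le_normalizer _)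
      have h2 : t ∈ normalizer (N : Set G) := by
        have hle : N.map (MulAut.conj t).toMonoidHom ≤ N := by
          rw [MonoidHom.map_zpowers, zpowers_le]
          exact hzt
        rw [mem_normalizer_iff_map_conj_eq]
        exact eq_of_le_of_card_ge hle
          (card_map_of_injective (MulAut.conj t).injective).ge
      rcases (Nat.dvd_prime Nat.prime_two).mp (hi ▸ index_dvd_of_le h1) with h | h
      · exact index_eq_one.mp h
      · have h3 := relIndex_mul_index h1
        rw [h, hi] at h3
        exact absurd (relIndex_eq_one.mp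
          (Nat.eq_of_mul_eq_mul_right Nat.two_pos (h3.trans (one_mul 2).symm)) h2) htP
    have hq : Nat.card (G ⧸ N) = 2 * p ^ n := by
      have := card_eq_card_quotient_mul_card_subgroup N
      rw [hG, hNc, pow_succ, ← mul_assoc] at this
      exact (Nat.eq_of_mul_eq_mul_right hp.pos this).symm
    exact of_quotient_prime N (hNc ▸ hp) (ih hq)

theorem clt_of_mulEquiv {K : Type u} [Group K] (e : G ≃* K)
    (h : Cfsg.HasSubgroupOfEveryOrder G) : Cfsg.HasSubgroupOfEveryOrder K := by
  intro d hd
  obtain ⟨H, hH⟩ := h d (Nat.card_congr e.toEquiv ▸ hd)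
  exact ⟨H.map e.toMonoidHom, by rw [card_map_of_injective e.injective, hH]⟩

theorem hereditary_clt_subgroup (h : ∀ H : Subgroup G, Cfsg.HasSubgroupOfEveryOrder H)
    (K : Subgroup G) : ∀ H : Subgroup K, Cfsg.HasSubgroupOfEveryOrder H := fun H =>
  clt_of_mulEquiv (H.equivMapOfInjective K.subtype K.subtype_injective).symm (h _)

theorem exists_index_prime [Finite G] (h : ∀ H : Subgroup G, Cfsg.HasSubgroupOfEveryOrder H)
    {q : ℕ} (hq : q ∣ Nat.card G) : ∃ H : Subgroup G, H.index = q := by
  obtain ⟨H, hH⟩ := clt_of_mulEquiv Subgroup.topEquiv (h ⊤) _ (Nat.div_dvd_of_dvd hq)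
  refine ⟨H, ?_⟩
  have h1 := H.card_mul_index
  rw [hH] at h1
  have hd : 0 < Nat.card G / q :=
    Nat.div_pos (Nat.le_of_dvd Nat.card_pos hq)
      (Nat.pos_of_ne_zero fun h0 => Nat.card_pos.ne' (zero_dvd_iff.mp (h0 ▸ hq)))
  refine Nat.eq_of_mul_eq_mul_left hd ?_
  rw [h1, Nat.div_mul_cancel hq]

/-- Hereditary converse of Lagrange: the Sylow subgroup for the largest prime is normal. -/
theorem sylow_normal_of_hereditary_clt [Finite G]
    (h : ∀ H : Subgroup G, Cfsg.HasSubgroupOfEveryOrder H) {p : ℕ} [hp : Fact p.Prime]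
    (hmax : ∀ q : ℕ, q.Prime → q ∣ Nat.card G → q ≤ p) (P : Sylow p G) :
    (P : Subgroup G).Normal := by
  revert h hmax P
  refine groupInduction (P := fun G _ _ => (∀ H : Subgroup G, Cfsg.HasSubgroupOfEveryOrder H) →
    (∀ q : ℕ, q.Prime → q ∣ Nat.card G → q ≤ p) → ∀ P : Sylow p G, (P : Subgroup G).Normal)
    (fun G _ _ ih h hmax P => ?_) G
  by_cases hG : IsPGroup p G
  · have : (P : Subgroup G) = ⊤ := (P.3 (hG.to_subgroup ⊤) le_top).symm
    rw [this]
    infer_instance
  have h1 : Nat.card G ≠ 1 := fun h1 => hG (IsPGroup.of_card (n := 0) (by rw [h1, pow_zero]))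
  set q := (Nat.card G).minFac
  have hq : q.Prime := Nat.minFac_prime h1
  have hqp : q ≠ p := by
    intro hqp
    refine hG (IsPGroup.of_card (n := (Nat.card G).primeFactorsList.length) ?_)
    exact Nat.eq_prime_pow_of_unique_prime_dvd Nat.card_pos.ne' fun {r} hr hrd =>
      le_antisymm (hmax r hr hrd) (hqp ▸ Nat.minFac_le_of_dvd hr.two_le hrd)
  obtain ⟨H, hH⟩ := exists_index_prime h (Nat.minFac_dvd (Nat.card G))
  have hHn : H.Normal := normal_of_index_eq_minFac_card hH
  have hPH : (P : Subgroup G) ≤ H := by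
    rw [← relIndex_eq_one]
    obtain ⟨k, hk⟩ := IsPGroup.iff_card.mp P.2
    refine Nat.eq_one_of_dvd_coprimes
      (Nat.Coprime.pow_left k ((Nat.coprime_primes hp.1 hq).mpr hqp.symm))
      (hk ▸ index_dvd_card _) ?_
    exact (relIndex_dvd_index_of_normal H P).trans hH.dvd
  have hlt : Nat.card H < Nat.card G := by
    rw [← H.card_mul_index, hH]
    exact lt_mul_of_one_lt_right Nat.card_pos hq.one_lt
  have hn := ih H hlt (hereditary_clt_subgroup h H)
    (fun r hr hrd => hmax r hr (hrd.trans (card_subgroup_dvd_card H))) (P.subtype hPH)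
  have := (P.subtype hPH).characteristic_of_normal hn
  have h2 : (((P.subtype hPH : Sylow p H) : Subgroup H).map H.subtype).Normal := inferInstance
  rwa [Sylow.coe_subtype, map_subgroupOf_eq_of_le hPH] at h2

/-- Hereditary converse of Lagrange implies supersolvable. -/
theorem of_hereditary_clt [Finite G] (h : ∀ H : Subgroup G, Cfsg.HasSubgroupOfEveryOrder H) :
    Cfsg.IsSupersolvable G := by
  revert h
  refine groupInduction (P := fun G _ _ => (∀ H : Subgroup G, Cfsg.HasSubgroupOfEveryOrder H) →
    Cfsg.IsSupersolvable G) (fun G _ _ ih h => ?_) G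
  cases subsingleton_or_nontrivial G with
  | inl hs => exact of_subsingleton
  | inr hs =>
    have hne : (Nat.card G).primeFactors.Nonempty :=
      Nat.nonempty_primeFactors.mpr Finite.one_lt_card
    set p := (Nat.card G).primeFactors.max' hne
    have hpmem := (Nat.card G).primeFactors.max'_mem hne
    have hp : p.Prime := Nat.prime_of_mem_primeFactors hpmem
    have := Fact.mk hp
    have hmax : ∀ q : ℕ, q.Prime → q ∣ Nat.card G → q ≤ p := fun q hq hqd =>
      Finset.le_max' _ q (Nat.mem_primeFactors.mpr ⟨hq, hqd, Nat.card_pos.ne'⟩)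
    have hd := Nat.dvd_of_mem_primeFactors hpmem
    obtain ⟨H, hH⟩ := exists_index_prime h hd
    have P : Sylow p G := default
    have hPn := sylow_normal_of_hereditary_clt h hmax P
    have hlt : Nat.card H < Nat.card G := by
      rw [← H.card_mul_index, hH]
      exact lt_mul_of_one_lt_right Nat.card_pos hp.one_lt
    refine of_index_prime_supplement (P : Subgroup G) H P.2
      (ih H hlt (hereditary_clt_subgroup h H)) hH ?_
    rcases (Nat.dvd_prime hp).mp ((index_dvd_of_le (le_sup_right :
      H ≤ (P : Subgroup G) ⊔ H)).trans hH.dvd) with h1 | h1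
    · exact index_eq_one.mp h1
    · have h2 := index_dvd_of_le (le_sup_left : (P : Subgroup G) ≤ (P : Subgroup G) ⊔ H)
      rw [h1] at h2
      exact absurd h2 P.not_dvd_index

end CfsgLib.Supersolvable
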