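import Cfsg.Prelude.Def_SolvableStructure
import Mathlib.GroupTheory.SpecificGroups.Cyclic
import Mathlib.GroupTheory.QuotientGroup.Finite
import Mathlib.GroupTheory.GroupAction.ConjAct

/-!
Basic theory of finite supersolvable groups (`Cfsg.IsSupersolvable`).
-/

set_option autoImplicit false

open Subgroup

namespace CfsgLib.Supersolvable

universe u v

/-- Strong induction on the order, for finite groups. -/
theorem groupInduction {P : ∀ (G : Type u) [Group G] [Finite G], Prop}
    (h : ∀ (G : Type u) [Group G] [Finite G],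
      (∀ (K : Type u) [Group K] [Finite K], Nat.card K < Nat.card G → P K) → P G)
    (G : Type u) [Group G] [Finite G] : P G := by
  suffices H : ∀ n, ∀ (G : Type u) [Group G] [Finite G], Nat.card G = n → P G from H _ G rfl
  intro n
  induction n using Nat.strong_induction_on with
  | _ n ih =>
    intro G _ _ hn
    exact h G fun K _ _ hK => ih _ (hn ▸ hK) K rfl

theorem card_quotient_lt {G : Type u} [Group G] [Finite G] {N : Subgroup G} (hN : N ≠ ⊥) :
    Nat.card (G ⧸ N) < Nat.card G := by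
  rw [card_eq_card_quotient_mul_card_subgroup N]
  exact lt_mul_of_one_lt_right Nat.card_pos ((one_lt_card_iff_ne_bot N).mpr hN)

theorem prime_card_ne_bot {G : Type u} [Group G] {N : Subgroup G} (hN : (Nat.card N).Prime) :
    N ≠ ⊥ := by
  rintro rfl
  rw [card_bot] at hN
  exact Nat.not_prime_one hN

variable {G : Type u} {K : Type v} [Group G] [Group K]

/-- A subgroup of a cyclic extension is a cyclic extension. -/
theorem exists_comap_eq_sup_zpowers (f : K →* G) (A : Subgroup G) [A.Normal] (g : G) :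
    ∃ k : K, (A ⊔ zpowers g).comap f = A.comap f ⊔ zpowers k := by
  set π := QuotientGroup.mk' A
  set T : Subgroup (G ⧸ A) := ((A ⊔ zpowers g).comap f).map (π.comp f) with hT
  have hle : T ≤ zpowers (π g) := by
    rw [hT, ← map_map, map_le_iff_le_comap]
    refine le_trans (map_comap_le f _) (sup_le ?_ ?_)
    · intro a ha
      have : π a = 1 := (QuotientGroup.eq_one_iff a).mpr ha
      simp [mem_comap, this]
    · rw [zpowers_le, mem_comap]
      exact mem_zpowers _
  have : IsCyclic T := isCyclic_of_le hle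
  obtain ⟨t, ht⟩ := (isCyclic_iff_exists_zpowers_eq_top.mp (show IsCyclic T from this))
  obtain ⟨k, hk, hkt⟩ := mem_map.mp t.2
  refine ⟨k, le_antisymm ?_ (sup_le (comap_mono le_sup_left) (by rwa [zpowers_le]))⟩
  intro x hx
  have hxT : (π.comp f) x ∈ T := mem_map_of_mem _ hx
  obtain ⟨j, hj⟩ := mem_zpowers_iff.mp (ht ▸ mem_top (⟨_, hxT⟩ : T) : (⟨_, hxT⟩ : T) ∈ zpowers t)
  have hj' : (π.comp f) (k ^ j) = (π.comp f) x := by
    have := congrArg Subtype.val hj
    rw [SubgroupClass.coe_zpow] at this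
    rw [map_zpow, hkt, this]
  have hA : x * (k ^ j)⁻¹ ∈ A.comap f := by
    rw [mem_comap]
    refine (QuotientGroup.eq_one_iff _).mp ?_
    show (π.comp f) (x * (k ^ j)⁻¹) = 1
    rw [map_mul, map_inv, hj', mul_inv_cancel]
  have : x = x * (k ^ j)⁻¹ * k ^ j := by group
  rw [this]
  exact mul_mem (mem_sup_left hA) (mem_sup_right (zpow_mem (mem_zpowers k) j))

/-- Supersolvability passes to groups embedding into a supersolvable group. -/
theorem of_injective (f : K →* G) (hf : Function.Injective f) (hG : Cfsg.IsSupersolvable G) :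
    Cfsg.IsSupersolvable K := by
  obtain ⟨n, H, h0, hl, hn, hs⟩ := hG
  refine ⟨n, fun i => (H i).comap f, ?_, ?_, fun i => (hn i).comap f, fun i => ?_⟩
  · simp only [h0, MonoidHom.comap_bot, (MonoidHom.ker_eq_bot_iff f).mpr hf]
  · simp only [hl, comap_top]
  · obtain ⟨g, hg⟩ := hs i
    have := hn i.castSucc
    obtain ⟨k, hk⟩ := exists_comap_eq_sup_zpowers f (H i.castSucc) g
    exact ⟨k, by simp only [hg, hk]⟩

/-- Supersolvability passes to images. -/
theorem of_surjective (f : G →* K) (hf : Function.Surjective f) (hG : Cfsg.IsSupersolvable G) :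
    Cfsg.IsSupersolvable K := by
  obtain ⟨n, H, h0, hl, hn, hs⟩ := hG
  refine ⟨n, fun i => (H i).map f, ?_, ?_, fun i => (hn i).map f hf, fun i => ?_⟩
  · simp only [h0, Subgroup.map_bot]
  · simp only [hl, map_top_of_surjective f hf]
  · obtain ⟨g, hg⟩ := hs i
    exact ⟨f g, by simp only [hg, Subgroup.map_sup, MonoidHom.map_zpowers]⟩

theorem of_mulEquiv (e : G ≃* K) (hG : Cfsg.IsSupersolvable G) : Cfsg.IsSupersolvable K :=
  of_surjective e.toMonoidHom e.surjective hG

theorem subgroup (hG : Cfsg.IsSupersolvable G) (H : Subgroup G) : Cfsg.IsSupersolvable H :=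
  of_injective H.subtype H.subtype_injective hG

theorem quotient (hG : Cfsg.IsSupersolvable G) (N : Subgroup G) [N.Normal] :
    Cfsg.IsSupersolvable (G ⧸ N) :=
  of_surjective _ (QuotientGroup.mk'_surjective N) hG

theorem of_subsingleton [Subsingleton G] : Cfsg.IsSupersolvable G :=
  ⟨0, fun _ => ⊥, rfl, Subsingleton.elim _ _, fun _ => normal_bot, fun i => i.elim0⟩

/-- An extension of a cyclic kernel by a supersolvable group is supersolvable. -/
theorem of_surjective_ker_zpowers (f : G →* K) (hf : Function.Surjective f) (z : G)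
    (hz : f.ker = zpowers z) (hK : Cfsg.IsSupersolvable K) : Cfsg.IsSupersolvable G := by
  obtain ⟨n, H, h0, hl, hn, hs⟩ := hK
  refine ⟨n + 1, Fin.cons ⊥ (fun i => (H i).comap f), rfl, ?_, ?_, ?_⟩
  · rw [← Fin.succ_last, Fin.cons_succ, hl, comap_top]
  · intro i
    cases i using Fin.cases with
    | zero => exact normal_bot
    | succ j =>
      rw [Fin.cons_succ]
      exact (hn j).comap f
  · intro i
    cases i using Fin.cases with
    | zero =>
      refine ⟨z, ?_⟩
      rw [Fin.cons_succ, Fin.castSucc_zero, Fin.cons_zero, h0, MonoidHom.comap_bot, hz, bot_sup_eq]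
    | succ j =>
      obtain ⟨g, hg⟩ := hs j
      obtain ⟨g, rfl⟩ := hf g
      refine ⟨g, ?_⟩
      rw [Fin.cons_succ, ← Fin.succ_castSucc, Fin.cons_succ, hg]
      conv_lhs =>
        rw [← map_comap_eq_self_of_surjective hf (H j.castSucc), ← MonoidHom.map_zpowers,
          ← Subgroup.map_sup, comap_map_eq_self (le_trans (ker_le_comap f _) le_sup_left)]

theorem of_quotient_cyclic (N : Subgroup G) [N.Normal] [hc : IsCyclic N]
    (h : Cfsg.IsSupersolvable (G ⧸ N)) : Cfsg.IsSupersolvable G := by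
  obtain ⟨z, hz⟩ := (isCyclic_iff_exists_zpowers_eq_top.mp hc)
  refine of_surjective_ker_zpowers _ (QuotientGroup.mk'_surjective N) (z : G) ?_ h
  rw [QuotientGroup.ker_mk']
  have h' := congrArg (Subgroup.map N.subtype) hz
  rw [MonoidHom.map_zpowers, ← MonoidHom.range_eq_map, range_subtype] at h'
  exact h'.symm

theorem of_quotient_prime (N : Subgroup G) [N.Normal] (hN : (Nat.card N).Prime)
    (h : Cfsg.IsSupersolvable (G ⧸ N)) : Cfsg.IsSupersolvable G := by
  have := Fact.mk hN
  have : IsCyclic N := isCyclic_of_prime_card rfl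
  exact of_quotient_cyclic N h

/-- A nontrivial cyclic normal subgroup contains a normal subgroup of prime order. -/
theorem exists_normal_prime_le_zpowers [Finite G] (g : G) (hn : (zpowers g).Normal) {q : ℕ}
    (hq : q.Prime) (hqd : q ∣ orderOf g) :
    ∃ N : Subgroup G, N.Normal ∧ Nat.card N = q ∧ N ≤ zpowers g := by
  have ho : 0 < orderOf g := orderOf_pos g
  refine ⟨zpowers (g ^ (orderOf g / q)), ⟨fun x hx y => ?_⟩, ?_, ?_⟩
  · obtain ⟨k, rfl⟩ := mem_zpowers_iff.mp hx
    obtain ⟨j, hj⟩ := mem_zpowers_iff.mp (hn.conj_mem g (mem_zpowers g) y)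
    rw [mem_zpowers_iff]
    refine ⟨j * k, ?_⟩
    rw [← conj_zpow, ← conj_pow, ← hj]
    simp only [← zpow_natCast, ← zpow_mul]
    congr 1
    ac_rfl
  · rw [Nat.card_zpowers, orderOf_pow' _ (Nat.div_pos (Nat.le_of_dvd ho hqd) hq.pos).ne',
      Nat.gcd_eq_right (Nat.div_dvd_of_dvd hqd), Nat.div_div_self hqd ho.ne']
  · rw [zpowers_le]
    exact pow_mem (mem_zpowers g) _

/-- A nontrivial finite supersolvable group has a normal subgroup of prime order. -/
theorem exists_normal_prime [Finite G] [Nontrivial G] (hG : Cfsg.IsSupersolvable G) :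
    ∃ N : Subgroup G, N.Normal ∧ (Nat.card N).Prime := by
  obtain ⟨n, H, h0, hl, hn, hs⟩ := hG
  have key : ∀ i : Fin (n + 1), H i = ⊥ ∨ ∃ N : Subgroup G, N.Normal ∧ (Nat.card N).Prime := by
    intro i
    induction i using Fin.induction with
    | zero => exact Or.inl h0
    | succ i ih =>
      rcases ih with hbot | hN
      · obtain ⟨g, hg⟩ := hs i
        rw [hbot, bot_sup_eq] at hg
        rcases eq_or_ne g 1 with rfl | hg1
        · left
          rw [hg, zpowers_one_eq_bot]
        · right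
          obtain ⟨q, hq, hqd⟩ := Nat.exists_prime_and_dvd (orderOf_eq_one_iff.not.mpr hg1)
          obtain ⟨N, hN, hcard, -⟩ := exists_normal_prime_le_zpowers g (hg ▸ hn i.succ) hq hqd
          exact ⟨N, hN, hcard ▸ hq⟩
      · exact Or.inr hN
  refine (key (Fin.last n)).resolve_left ?_
  rw [hl]
  exact top_ne_bot

/-- Conjugations acting on a cyclic normal subgroup commute. -/
theorem commutator_le_centralizer_of_cyclic (N : Subgroup G) [N.Normal] [hc : IsCyclic N] :
    commutator G ≤ centralizer (N : Set G) := by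
  obtain ⟨z, hz⟩ := (isCyclic_iff_exists_zpowers_eq_top.mp hc)
  rw [commutator_def, commutator_le]
  intro x _ y _
  rw [mem_centralizer_iff]
  intro w hw
  obtain ⟨k, hk⟩ := mem_zpowers_iff.mp (hz ▸ mem_top (⟨w, hw⟩ : N) : (⟨w, hw⟩ : N) ∈ zpowers z)
  obtain ⟨i, hi⟩ := mem_zpowers_iff.mp
    (hz ▸ mem_top _ : (⟨x * z * x⁻¹, Normal.conj_mem ‹_› _ z.2 x⟩ : N) ∈ zpowers z)
  obtain ⟨j, hj⟩ := mem_zpowers_iff.mp
    (hz ▸ mem_top _ : (⟨y * z * y⁻¹, Normal.conj_mem ‹_› _ z.2 y⟩ : N) ∈ zpowers z)
  have hk' : (z : G) ^ k = w := by simpa using congrArg Subtype.val hk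
  have hi' : x * (z : G) * x⁻¹ = (z : G) ^ i := by simpa using (congrArg Subtype.val hi).symm
  have hj' : y * (z : G) * y⁻¹ = (z : G) ^ j := by simpa using (congrArg Subtype.val hj).symm
  have hxy : (x * y) * w * (x * y)⁻¹ = (y * x) * w * (y * x)⁻¹ := by
    have h1 : ∀ a : ℤ, x * (z : G) ^ a * x⁻¹ = (z : G) ^ (i * a) := fun a => by
      rw [← conj_zpow, hi', zpow_mul]
    have h2 : ∀ a : ℤ, y * (z : G) ^ a * y⁻¹ = (z : G) ^ (j * a) := fun a => by
      rw [← conj_zpow, hj', zpow_mul]
    calc (x * y) * w * (x * y)⁻¹ = x * (y * w * y⁻¹) * x⁻¹ := by group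
      _ = (z : G) ^ (i * (j * k)) := by rw [← hk', h2, h1]
      _ = (z : G) ^ (j * (i * k)) := by rw [mul_left_comm]
      _ = y * (x * w * x⁻¹) * y⁻¹ := by rw [← hk', h1, h2]
      _ = (y * x) * w * (y * x)⁻¹ := by group
  -- `⁅x, y⁆` commutes with every element of `N`
  have h3 : (x * y * x⁻¹ * y⁻¹) * w * (x * y * x⁻¹ * y⁻¹)⁻¹ = w := by
    have hw' : (x⁻¹ * y⁻¹) * w * (x⁻¹ * y⁻¹)⁻¹ ∈ N := Normal.conj_mem ‹_› _ hw _
    obtain ⟨l, hl⟩ := mem_zpowers_iff.mp (hz ▸ mem_top _ : (⟨_, hw'⟩ : N) ∈ zpowers z)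
    have hl' : (z : G) ^ l = (x⁻¹ * y⁻¹) * w * (x⁻¹ * y⁻¹)⁻¹ := by
      simpa using congrArg Subtype.val hl
    calc (x * y * x⁻¹ * y⁻¹) * w * (x * y * x⁻¹ * y⁻¹)⁻¹
        = (x * y) * (z : G) ^ l * (x * y)⁻¹ := by rw [hl']; group
      _ = x * (y * (z : G) ^ l * y⁻¹) * x⁻¹ := by group
      _ = (z : G) ^ (i * (j * l)) := by
        rw [← conj_zpow, hj', ← zpow_mul, ← conj_zpow, hi', ← zpow_mul]
      _ = (z : G) ^ (j * (i * l)) := by rw [mul_left_comm]
      _ = y * (x * (z : G) ^ l * x⁻¹) * y⁻¹ := by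
        rw [← conj_zpow, hi', ← zpow_mul, ← conj_zpow, hj', ← zpow_mul]
      _ = w := by rw [hl']; group
  rw [commutatorElement_def]
  exact (mul_inv_eq_iff_eq_mul.mp h3).symm

/-- The derived group of a finite supersolvable group is nilpotent. -/
theorem commutator_nilpotent [Finite G] (hG : Cfsg.IsSupersolvable G) :
    Group.IsNilpotent (commutator G) := by
  revert hG
  refine groupInduction (P := fun G _ _ => Cfsg.IsSupersolvable G →
    Group.IsNilpotent (commutator G)) (fun G _ _ ih hG => ?_) G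
  cases subsingleton_or_nontrivial G with
  | inl h => infer_instance
  | inr h =>
    obtain ⟨N, hN, hp⟩ := exists_normal_prime hG
    have := Fact.mk hp
    have : IsCyclic N := isCyclic_of_prime_card rfl
    have := ih (G ⧸ N) (card_quotient_lt (prime_card_ne_bot hp)) (quotient hG N)
    let f : commutator G →* G ⧸ N := (QuotientGroup.mk' N).comp (commutator G).subtype
    have hf : ∀ x, f x ∈ commutator (G ⧸ N) := fun x => by
      rw [commutator_def, ← map_top_of_surjective _ (QuotientGroup.mk'_surjective N), ← map_commutator,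
      ← commutator_def]
      exact mem_map_of_mem _ x.2
    refine Subgroup.isNilpotent_of_ker_le_center (f.codRestrict _ hf) ?_
    intro a ha
    rw [MonoidHom.ker_codRestrict, MonoidHom.mem_ker] at ha
    have haN : (a : G) ∈ N := (QuotientGroup.eq_one_iff _).mp ha
    rw [mem_center_iff]
    exact fun b => Subtype.ext
      (mem_centralizer_iff.mp (commutator_le_centralizer_of_cyclic N b.2) a haN).symm

end CfsgLib.Supersolvable
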