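import Cfsg.Agent.Lib.Supersolvable.Basic
import Mathlib.GroupTheory.SchurZassenhaus
import Mathlib.GroupTheory.Sylow

/-!
Products, maximal subgroups, the Sylow tower and subgroups of all orders in finite supersolvable
groups.
-/

set_option autoImplicit false

open Subgroup

namespace CfsgLib.Supersolvable

universe u v

variable {G : Type u} [Group G]

theorem nontrivial_of_card {n : ℕ} (h : 1 < n) (hn : n ∣ Nat.card G) [Finite G] : Nontrivial G :=
  Finite.one_lt_card_iff_nontrivial.mp (lt_of_lt_of_le h (Nat.le_of_dvd Nat.card_pos hn))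

theorem prod [Finite G] (hG : Cfsg.IsSupersolvable G) {H : Type v} [Group H]
    (hH : Cfsg.IsSupersolvable H) : Cfsg.IsSupersolvable (G × H) := by
  revert hG
  refine groupInduction (P := fun G _ _ => Cfsg.IsSupersolvable G →
    Cfsg.IsSupersolvable (G × H)) (fun G _ _ ih hG => ?_) G
  cases subsingleton_or_nontrivial G with
  | inl h => exact of_injective (MonoidHom.snd G H) (fun a b hab =>
      Prod.ext (Subsingleton.elim _ _) hab) hH
  | inr h =>
    obtain ⟨N, hN, hp⟩ := exists_normal_prime hG
    have := Fact.mk hp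
    have : IsCyclic N := isCyclic_of_prime_card rfl
    obtain ⟨z, hz⟩ := (isCyclic_iff_exists_zpowers_eq_top.mp ‹IsCyclic N›)
    refine of_surjective_ker_zpowers ((QuotientGroup.mk' N).prodMap (MonoidHom.id H))
      ((QuotientGroup.mk'_surjective N).prodMap Function.surjective_id) ((z : G), 1) ?_
      (ih _ (card_quotient_lt (prime_card_ne_bot hp)) (quotient hG N))
    ext ⟨a, b⟩
    simp only [MonoidHom.mem_ker, MonoidHom.prodMap_def, MonoidHom.prod_apply, MonoidHom.coe_comp,
      Function.comp_apply, MonoidHom.coe_fst, MonoidHom.coe_snd, MonoidHom.id_apply,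
      Prod.mk_eq_one, mem_zpowers_iff, Prod.pow_mk, Prod.ext_iff, one_zpow]
    constructor
    · rintro ⟨ha, hb⟩
      have ha' : a ∈ N := (QuotientGroup.eq_one_iff a).mp ha
      obtain ⟨k, hk⟩ := mem_zpowers_iff.mp
        (hz ▸ mem_top _ : (⟨a, ha'⟩ : N) ∈ zpowers z)
      exact ⟨k, by simpa using congrArg Subtype.val hk, hb.symm⟩
    · rintro ⟨k, hk, hb⟩
      exact ⟨(QuotientGroup.eq_one_iff a).mpr (hk ▸ zpow_mem z.2 k), hb.symm⟩

/-- A subdirect product of supersolvable groups is supersolvable. -/
theorem of_subdirect [Finite G] (M N : Subgroup G) [M.Normal] [N.Normal] (h : M ⊓ N = ⊥)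
    (hM : Cfsg.IsSupersolvable (G ⧸ M)) (hN : Cfsg.IsSupersolvable (G ⧸ N)) :
    Cfsg.IsSupersolvable G := by
  refine of_injective ((QuotientGroup.mk' M).prod (QuotientGroup.mk' N)) ?_ (prod hM hN)
  rw [← MonoidHom.ker_eq_bot_iff, MonoidHom.ker_prod, QuotientGroup.ker_mk',
    QuotientGroup.ker_mk', h]

/-- A finite group of prime power order is supersolvable. -/
theorem of_isPGroup [Finite G] {p : ℕ} [Fact p.Prime] (hG : IsPGroup p G) :
    Cfsg.IsSupersolvable G := by
  revert hG
  refine groupInduction (P := fun G _ _ => IsPGroup p G → Cfsg.IsSupersolvable G)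
    (fun G _ _ ih hG => ?_) G
  cases subsingleton_or_nontrivial G with
  | inl h => exact of_subsingleton
  | inr h =>
    have := hG.center_nontrivial
    obtain ⟨q, hq, hqd⟩ := Nat.exists_prime_and_dvd
      (Finite.one_lt_card (α := center G)).ne'
    have := Fact.mk hq
    obtain ⟨z, hz⟩ := exists_prime_orderOf_dvd_card' q hqd
    have hn : (zpowers (z : G)).Normal := ⟨fun x hx y => by
      have : x ∈ center G := (zpowers_le.mpr z.2) hx
      rw [mem_center_iff] at this
      rwa [this y, mul_inv_cancel_right]⟩
    have hc : (Nat.card (zpowers (z : G))).Prime := by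
      rw [Nat.card_zpowers, Subgroup.orderOf_coe, hz]
      exact hq
    exact of_quotient_prime _ hc
      (ih _ (card_quotient_lt (prime_card_ne_bot hc)) (hG.to_quotient _))

/-- Maximal subgroups of finite supersolvable groups have prime index. -/
theorem index_prime_of_isCoatom [Finite G] (hG : Cfsg.IsSupersolvable G) (M : Subgroup G)
    (hM : IsCoatom M) : M.index.Prime := by
  revert hG M
  refine groupInduction (P := fun G _ _ => Cfsg.IsSupersolvable G → ∀ M : Subgroup G,
    IsCoatom M → M.index.Prime) (fun G _ _ ih hG M hM => ?_) G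
  cases subsingleton_or_nontrivial G with
  | inl h => exact absurd (Subsingleton.elim M ⊤) hM.1
  | inr h =>
    obtain ⟨N, hN, hp⟩ := exists_normal_prime hG
    by_cases hNM : N ≤ M
    · have hker : (QuotientGroup.mk' N).ker ≤ M := by rwa [QuotientGroup.ker_mk']
      have hsurj := QuotientGroup.mk'_surjective N
      have hM' : IsCoatom (M.map (QuotientGroup.mk' N)) := by
        refine ⟨fun he => hM.1 ?_, fun Y hY => ?_⟩
        · rw [← comap_map_eq_self hker, he, comap_top]
        · refine comap_injective hsurj ((hM.2 _ ?_).trans (comap_top _).symm)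
          rw [← comap_map_eq_self hker]
          exact (comap_lt_comap_of_surjective hsurj).mpr hY
      have := ih _ (card_quotient_lt (prime_card_ne_bot hp)) (quotient hG N) _ hM'
      rwa [index_map_eq M hsurj hker] at this
    · have htop : M ⊔ N = ⊤ := hM.2 _ (left_lt_sup.mpr hNM)
      have hcomp : IsComplement' M N := by
        refine isComplement'_of_disjoint_and_mul_eq_univ ?_ ?_
        · rw [disjoint_iff]
          have h2 : Nat.card (M ⊓ N : Subgroup G) ∣ Nat.card N := card_dvd_of_le inf_le_right
          rcases (Nat.dvd_prime hp).mp h2 with h3 | h3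
          · exact eq_bot_of_card_eq _ h3
          · exact absurd ((eq_of_le_of_card_ge inf_le_right h3.ge) ▸ inf_le_left) hNM
        · rw [← coe_top, ← htop, mul_normal]
      rw [hcomp.symm.index_eq_card]
      exact hp

/-- A group of order `p * q`, `q < p` primes, has a normal subgroup of order `p`. -/
theorem sylow_normal_of_card_mul [Finite G] {p q : ℕ} [hp : Fact p.Prime] (hq : q.Prime)
    (hqp : q < p) (hG : Nat.card G = p * q) (P : Sylow p G) : (P : Subgroup G).Normal := by
  have hP : Nat.card P = p := by
    rw [P.card_eq_multiplicity, hG, Nat.factorization_mul hp.1.ne_zero hq.ne_zero,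
      hp.1.factorization, hq.factorization]
    simp [hqp.ne]
  have hi : (P : Subgroup G).index = q := by
    have := (P : Subgroup G).card_mul_index
    rw [hP, hG] at this
    exact Nat.eq_of_mul_eq_mul_left hp.1.pos this
  have hdvd := P.card_dvd_index
  rw [hi] at hdvd
  have hmod := card_sylow_modEq_one p G
  rcases (Nat.dvd_prime hq).mp hdvd with h1 | h1
  · have : Subsingleton (Sylow p G) := (Nat.card_eq_one_iff_unique.mp h1).1
    exact P.normal_of_subsingleton
  · rw [h1, Nat.ModEq, Nat.mod_eq_of_lt hqp, Nat.mod_eq_of_lt hp.1.one_lt] at hmod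
    exact absurd hmod hq.ne_one

/-- For the largest prime `p` dividing the order there is a normal subgroup of order `p`. -/
theorem exists_normal_card_max [Finite G] (hG : Cfsg.IsSupersolvable G) {p : ℕ} (hp : p.Prime)
    (hd : p ∣ Nat.card G) (hmax : ∀ q : ℕ, q.Prime → q ∣ Nat.card G → q ≤ p) :
    ∃ N : Subgroup G, N.Normal ∧ Nat.card N = p := by
  revert hG hd hmax
  refine groupInduction (P := fun G _ _ => Cfsg.IsSupersolvable G → p ∣ Nat.card G →
    (∀ q : ℕ, q.Prime → q ∣ Nat.card G → q ≤ p) →
    ∃ N : Subgroup G, N.Normal ∧ Nat.card N = p) (fun G _ _ ih hG hd hmax => ?_) G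
  have := nontrivial_of_card hp.one_lt hd
  obtain ⟨N, hN, hq⟩ := exists_normal_prime hG
  by_cases hqp : Nat.card N = p
  · exact ⟨N, hN, hqp⟩
  have hlt : Nat.card N < p := lt_of_le_of_ne (hmax _ hq (card_subgroup_dvd_card N)) hqp
  have hcard := card_eq_card_quotient_mul_card_subgroup N
  have hd' : p ∣ Nat.card (G ⧸ N) := by
    rcases hp.dvd_mul.mp (hcard ▸ hd) with h | h
    · exact h
    · exact absurd ((Nat.prime_dvd_prime_iff_eq hp hq).mp h).symm hqp
  obtain ⟨B, hB, hBc⟩ := ih _ (card_quotient_lt (prime_card_ne_bot hq)) (quotient hG N) hd'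
    (fun r hr hrd => hmax r hr (hrd.trans (card_quotient_dvd_card N)))
  set M := B.comap (QuotientGroup.mk' N) with hM
  have hMc : Nat.card M = p * Nat.card N := by
    rw [← hBc]
    have h1 := M.card_mul_index
    have h2 := B.card_mul_index
    rw [hM, index_comap_of_surjective _ (QuotientGroup.mk'_surjective N), hcard, ← h2,
      ← hM] at h1
    have : (Nat.card M) * B.index = (Nat.card B * Nat.card N) * B.index := by rw [h1]; ring
    exact Nat.eq_of_mul_eq_mul_right (Nat.pos_of_ne_zero index_ne_zero_of_finite) this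
  have := Fact.mk hp
  have P : Sylow p M := default
  have hPn := sylow_normal_of_card_mul hq hlt hMc P
  have hPc : Nat.card P = p := by
    rw [P.card_eq_multiplicity, hMc, Nat.factorization_mul hp.ne_zero hq.ne_zero,
      hp.factorization, hq.factorization]
    simp [hlt.ne]
  have := P.characteristic_of_normal hPn
  exact ⟨(P : Subgroup M).map M.subtype, inferInstance,
    by rw [card_map_of_injective M.subtype_injective]; exact hPc⟩

/-- The Sylow subgroups for the largest prime are normal. -/
theorem sylow_max_normal [Finite G] (hG : Cfsg.IsSupersolvable G) {p : ℕ} [hp : Fact p.Prime]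
    (hmax : ∀ q : ℕ, q.Prime → q ∣ Nat.card G → q ≤ p) (P : Sylow p G) :
    (P : Subgroup G).Normal := by
  revert hG hmax P
  refine groupInduction (P := fun G _ _ => Cfsg.IsSupersolvable G →
    (∀ q : ℕ, q.Prime → q ∣ Nat.card G → q ≤ p) → ∀ P : Sylow p G, (P : Subgroup G).Normal)
    (fun G _ _ ih hG hmax P => ?_) G
  by_cases hd : p ∣ Nat.card G
  · obtain ⟨N, hN, hNc⟩ := exists_normal_card_max hG hp.1 hd hmax
    have hNP : N ≤ P := (IsPGroup.of_card (n := 1) (by rw [hNc, pow_one])).le_sylow_of_normal P
    have hlt : Nat.card (G ⧸ N) < Nat.card G :=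
      card_quotient_lt (prime_card_ne_bot (hNc.symm ▸ hp.1))
    have := ih _ hlt (quotient hG N)
      (fun r hr hrd => hmax r hr (hrd.trans (card_quotient_dvd_card N)))
      (P.mapSurjective (QuotientGroup.mk'_surjective N))
    rw [Sylow.coe_mapSurjective] at this
    have h2 := this.comap (QuotientGroup.mk' N)
    rwa [comap_map_eq_self (by rwa [QuotientGroup.ker_mk'])] at h2
  · have : (P : Subgroup G) = ⊥ := by
      apply eq_bot_of_card_eq
      rw [P.card_eq_multiplicity, Nat.factorization_eq_zero_of_not_dvd hd, pow_zero]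
    rw [this]
    exact normal_bot

/-- Subgroups of every order. -/
theorem exists_card_eq [Finite G] (hG : Cfsg.IsSupersolvable G) {d : ℕ} (hd : d ∣ Nat.card G) :
    ∃ H : Subgroup G, Nat.card H = d := by
  revert hG d
  refine groupInduction (P := fun G _ _ => Cfsg.IsSupersolvable G → ∀ {d : ℕ}, d ∣ Nat.card G →
    ∃ H : Subgroup G, Nat.card H = d) (fun G _ _ ih hG d hd => ?_) G
  cases subsingleton_or_nontrivial G with
  | inl h =>
    rw [Nat.card_of_subsingleton (1 : G), Nat.dvd_one] at hd
    exact ⟨⊥, by rw [hd, card_bot]⟩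
  | inr h =>
    obtain ⟨N, hN, hq⟩ := exists_normal_prime hG
    have hcard := card_eq_card_quotient_mul_card_subgroup N
    have hlt := card_quotient_lt (prime_card_ne_bot hq)
    have hsurj := QuotientGroup.mk'_surjective N
    have key : ∀ B : Subgroup (G ⧸ N),
        Nat.card (B.comap (QuotientGroup.mk' N)) = Nat.card B * Nat.card N := by
      intro B
      have h1 := (B.comap (QuotientGroup.mk' N)).card_mul_index
      have h2 := B.card_mul_index
      rw [index_comap_of_surjective _ hsurj, hcard, ← h2] at h1
      refine Nat.eq_of_mul_eq_mul_right (Nat.pos_of_ne_zero (index_ne_zero_of_finite (H := B))) ?_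
      rw [h1]; ring
    by_cases hqd : Nat.card N ∣ d
    · obtain ⟨e, rfl⟩ := hqd
      obtain ⟨B, hB⟩ := ih _ hlt (quotient hG N) (d := e) (by
        rw [hcard, mul_comm (Nat.card (G ⧸ N))] at hd
        exact Nat.dvd_of_mul_dvd_mul_left hq.pos hd)
      exact ⟨_, by rw [key B, hB, mul_comm]⟩
    · have hcop : (Nat.card N).Coprime d := hq.coprime_iff_not_dvd.mpr hqd
      obtain ⟨B, hB⟩ := ih _ hlt (quotient hG N) (d := d)
        (hcop.symm.dvd_of_dvd_mul_right (hcard ▸ hd))
      set M := B.comap (QuotientGroup.mk' N)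
      have hle : N ≤ M := fun x hx => by
        rw [mem_comap, show QuotientGroup.mk' N x = 1 from (QuotientGroup.eq_one_iff x).mpr hx]
        exact one_mem B
      have hc : Nat.card (N.subgroupOf M) = Nat.card N :=
        Nat.card_congr (subgroupOfEquivOfLe hle).toEquiv
      have hi : (N.subgroupOf M).index = d := by
        have := (N.subgroupOf M).card_mul_index
        rw [hc, key B, hB, mul_comm d] at this
        exact Nat.eq_of_mul_eq_mul_left hq.pos this
      obtain ⟨K, hK⟩ := exists_right_complement'_of_coprime (N := N.subgroupOf M) (by rwa [hc, hi])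
      refine ⟨K.map M.subtype, ?_⟩
      rw [card_map_of_injective M.subtype_injective, ← hK.symm.index_eq_card, hi]

/-- A normal series with prime indices, non-increasing upwards. -/
theorem exists_tower [Finite G] (hG : Cfsg.IsSupersolvable G) :
    ∃ (n : ℕ) (H : Fin (n + 1) → Subgroup G), H 0 = ⊥ ∧ H (Fin.last n) = ⊤ ∧
      (∀ i, (H i).Normal) ∧
      (∀ i : Fin n, H i.castSucc ≤ H i.succ ∧ ((H i.castSucc).relIndex (H i.succ)).Prime) ∧
      ∀ i j : Fin n, i ≤ j →
        (H j.castSucc).relIndex (H j.succ) ≤ (H i.castSucc).relIndex (H i.succ) := by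
  revert hG
  refine groupInduction (P := fun G _ _ => Cfsg.IsSupersolvable G →
    ∃ (n : ℕ) (H : Fin (n + 1) → Subgroup G), H 0 = ⊥ ∧ H (Fin.last n) = ⊤ ∧
      (∀ i, (H i).Normal) ∧
      (∀ i : Fin n, H i.castSucc ≤ H i.succ ∧ ((H i.castSucc).relIndex (H i.succ)).Prime) ∧
      ∀ i j : Fin n, i ≤ j →
        (H j.castSucc).relIndex (H j.succ) ≤ (H i.castSucc).relIndex (H i.succ))
    (fun G _ _ ih hG => ?_) G
  cases subsingleton_or_nontrivial G with
  | inl h =>
    exact ⟨0, fun _ => ⊥, rfl, Subsingleton.elim _ _, fun _ => normal_bot, fun i => i.elim0,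
      fun i => i.elim0⟩
  | inr h =>
    have hne : (Nat.card G).primeFactors.Nonempty :=
      Nat.nonempty_primeFactors.mpr Finite.one_lt_card
    set p := (Nat.card G).primeFactors.max' hne
    have hpmem := (Nat.card G).primeFactors.max'_mem hne
    have hmax : ∀ q : ℕ, q.Prime → q ∣ Nat.card G → q ≤ p := fun q hq hqd =>
      Finset.le_max' _ q (Nat.mem_primeFactors.mpr ⟨hq, hqd, Nat.card_pos.ne'⟩)
    have hp : p.Prime := Nat.prime_of_mem_primeFactors hpmem
    obtain ⟨N, hN, hNc⟩ := exists_normal_card_max hG hp (Nat.dvd_of_mem_primeFactors hpmem) hmax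
    have hsurj := QuotientGroup.mk'_surjective N
    obtain ⟨n, H, h0, hl, hn, hs, hmono⟩ :=
      ih _ (card_quotient_lt (prime_card_ne_bot (hNc.symm ▸ hp))) (quotient hG N)
    have hrel : ∀ j : Fin n, ((H j.castSucc).comap (QuotientGroup.mk' N)).relIndex
        ((H j.succ).comap (QuotientGroup.mk' N)) = (H j.castSucc).relIndex (H j.succ) := by
      intro j
      rw [relIndex_comap, map_comap_eq_self_of_surjective hsurj]
    refine ⟨n + 1, Fin.cons ⊥ (fun i => (H i).comap (QuotientGroup.mk' N)), rfl, ?_, ?_, ?_, ?_⟩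
    · rw [← Fin.succ_last, Fin.cons_succ, hl, comap_top]
    · intro i
      cases i using Fin.cases with
      | zero => exact normal_bot
      | succ j => rw [Fin.cons_succ]; exact (hn j).comap _
    · intro i
      cases i using Fin.cases with
      | zero =>
        rw [Fin.cons_succ, Fin.castSucc_zero, Fin.cons_zero, h0, MonoidHom.comap_bot,
          QuotientGroup.ker_mk', relIndex_bot_left, hNc]
        exact ⟨bot_le, hp⟩
      | succ j =>
        rw [Fin.cons_succ, ← Fin.succ_castSucc, Fin.cons_succ, hrel]
        exact ⟨comap_mono (hs j).1, (hs j).2⟩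
    · intro i j hij
      cases j using Fin.cases with
      | zero => rw [Fin.le_zero_iff.mp hij]
      | succ l =>
        cases i using Fin.cases with
        | zero =>
          rw [Fin.cons_succ, ← Fin.succ_castSucc, Fin.cons_succ, hrel, Fin.cons_succ,
            Fin.castSucc_zero, Fin.cons_zero, h0, MonoidHom.comap_bot, QuotientGroup.ker_mk',
            relIndex_bot_left, hNc]
          refine hmax _ (hs l).2 ?_
          exact (((H l.castSucc).subgroupOf (H l.succ)).index_dvd_card.trans
            (card_subgroup_dvd_card _)).trans (card_quotient_dvd_card N)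
        | succ k =>
          rw [Fin.cons_succ, ← Fin.succ_castSucc, Fin.cons_succ, hrel, Fin.cons_succ,
            ← Fin.succ_castSucc, Fin.cons_succ, hrel]
          exact hmono k l (Fin.succ_le_succ_iff.mp hij)

end CfsgLib.Supersolvable
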